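import Groth.Agent.FlatMor3.MorSRep
import Groth.Prelude.Def_WeilRes
import Groth.Prelude.Def_Flat

/-! Weil restriction along finite locally free morphisms, and along universal homeomorphisms. -/

set_option autoImplicit false
set_option linter.style.haveILetI false
set_option backward.isDefEq.respectTransparency false
set_option backward.isDefEq.respectTransparency.types false

universe u

open CategoryTheory CategoryTheory.Limits AlgebraicGeometry Opposite TopologicalSpace

namespace Groth.Agent.PicfLib.Weil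

open Groth.Agent.FlatMor3.MorSRep

variable {S Z X : Scheme.{u}} {g : Z ⟶ S} {f : X ⟶ S}

/-- A universal point from charts covering every point. -/
theorem exists_universal [IsFinite g] {ι : Type u} (cs : ι → Chart g f)
    (hcov : ∀ {T : Scheme.{u}} (x : Pt g f T) (t : T), ∃ i, t ∈ (cs i).locus x) :
    ∃ (W : Scheme.{u}) (u₀ : Pt g f W), ∀ {T : Scheme.{u}} (x : Pt g f T), ∃! m : T ⟶ W, u₀.pull m = x := by
  haveI : Presheaf.IsLocallySurjective Scheme.zariskiTopology (Sigma.desc fun i => (cs i).toPresheaf) := by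
    refine ⟨fun {T} (x : Pt g f T) => ?_⟩
    have hc : ∀ t : T, ∃ i, t ∈ (cs i).locus x := hcov x
    let 𝒰 : T.OpenCover := Scheme.Cover.mkOfCovers ι (fun i => ((cs i).locus x).toScheme) (fun i => ((cs i).locus x).ι)
      fun t => ⟨(hc t).choose, ⟨t, (hc t).choose_spec⟩, rfl⟩
    refine GrothendieckTopology.superset_covering _ ?_ 𝒰.mem_grothendieckTopology
    rintro R k ⟨_, l, _, ⟨i⟩, rfl⟩
    obtain ⟨m, hm⟩ := (cs i).exists_locus_map x
    refine ⟨(Sigma.ι (fun i => yoneda.obj (cs i).W) i).app (op R) (l ≫ m), ?_⟩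
    rw [← NatTrans.comp_app_apply, Sigma.ι_desc]
    show (cs i).univ.pull (l ≫ m) = x.pull (l ≫ ((cs i).locus x).ι)
    rw [Pt.pull_comp, hm, Pt.pull_comp]
  let Fs : Sheaf Scheme.zariskiTopology.{u} (Type u) :=
    ⟨presheaf g f, (isSheaf_iff_isSheaf_of_type _ _).2 (isSheaf_presheaf g f)⟩
  obtain ⟨G, ⟨rep⟩⟩ := (Scheme.LocalRepresentability.isRepresentable (F := Fs)
    (f := fun i => (cs i).toPresheaf) fun i => (cs i).isOpenImmersion_toPresheaf).has_representation
  let u₀ : Pt g f G := rep.homEquiv (𝟙 G)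
  have hrep : ∀ {R : Scheme.{u}} (h : R ⟶ G), (rep.homEquiv h : Pt g f R) = u₀.pull h := fun {R} h => by
    conv_lhs => rw [← Category.comp_id h, rep.homEquiv_comp]
    rfl
  exact ⟨G, u₀, fun {T} x => ⟨rep.homEquiv.symm x, (hrep _).symm.trans (rep.homEquiv.apply_symm_apply x),
    fun m hm => rep.homEquiv.injective (((hrep m).trans hm).trans (rep.homEquiv.apply_symm_apply x).symm)⟩⟩

section Restrict

variable {X' : Over Z}

/-- Composing a point with the structure map. -/
noncomputable def post {T : Scheme.{u}} (x : Pt g (X'.hom ≫ g) T) : Pt g g T :=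
  ⟨x.str, x.b ≫ X'.hom, (Category.assoc _ _ _).trans x.w⟩

theorem post_ev {T Q : Scheme.{u}} (x : Pt g (X'.hom ≫ g) T) (p : Q ⟶ T) (q : Q ⟶ Z) (h : p ≫ x.str = q ≫ g) :
    (post x).ev p q h = x.ev p q h ≫ X'.hom :=
  (Category.assoc _ _ _).symm

theorem post_pull {T T' : Scheme.{u}} (h : T' ⟶ T) (x : Pt g (X'.hom ≫ g) T) : post (x.pull h) = (post x).pull h :=
  Pt.ext' rfl fun p q w w' => by rw [post_ev, Pt.ev_pull, Pt.ev_pull, post_ev]

variable (g) in
/-- The tautological point. -/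
noncomputable def idPt : Pt g g S := ⟨𝟙 S, pullback.snd _ g, rfl⟩

theorem idPt_ev {Q : Scheme.{u}} (p : Q ⟶ S) (q : Q ⟶ Z) (h : p ≫ (idPt g).str = q ≫ g) :
    (idPt g).ev p q h = q := pullback.lift_snd _ _ _

theorem restr_left {R : Over S} (q : Red.bc g R ⟶ X') (T : Over S) (v : T ⟶ R) :
    (WeilRes.restr g q T v).left = pullback.lift (pullback.fst T.hom g ≫ v.left) (pullback.snd T.hom g)
      (by rw [Category.assoc, Over.w]; exact pullback.condition) ≫ q.left := rfl

/-- The Weil restriction from universal points. -/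
theorem exists_isWeilRes_of_universal {W₁ W₂ : Scheme.{u}} (u₁ : Pt g (X'.hom ≫ g) W₁) (u₂ : Pt g g W₂)
    (h₁ : ∀ {T : Scheme.{u}} (x : Pt g (X'.hom ≫ g) T), ∃! m : T ⟶ W₁, u₁.pull m = x)
    (h₂ : ∀ {T : Scheme.{u}} (x : Pt g g T), ∃! m : T ⟶ W₂, u₂.pull m = x) :
    ∃ (R : Over S) (q : Red.bc g R ⟶ X'), WeilRes.IsWeilRes g X' R q := by
  obtain ⟨a, ha, -⟩ := h₂ (post u₁)
  obtain ⟨σ, hσ, -⟩ := h₂ (idPt g)
  let R : Over S := Over.mk (pullback.snd a σ)
  have hR : post (u₁.pull (pullback.fst a σ)) = (idPt g).pull R.hom := by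
    rw [post_pull, ← ha, ← Pt.pull_comp, pullback.condition, Pt.pull_comp, hσ]
    rfl
  have hstr : pullback.fst a σ ≫ u₁.str = R.hom := (congrArg Pt.str hR).trans (Category.comp_id _)
  let ξ : pullback R.hom g ⟶ X'.left := u₁.ev (pullback.fst R.hom g ≫ pullback.fst a σ) (pullback.snd R.hom g)
    (by rw [Category.assoc, hstr]; exact pullback.condition)
  have hξ : ξ ≫ X'.hom = pullback.snd R.hom g := by
    have w : pullback.fst R.hom g ≫ (post (u₁.pull (pullback.fst a σ))).str = pullback.snd R.hom g ≫ g := by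
      show _ ≫ pullback.fst a σ ≫ u₁.str = _
      rw [hstr]; exact pullback.condition
    have h := Pt.ev_congr hR (p := pullback.fst R.hom g) (q := pullback.snd R.hom g) rfl rfl w
    rw [Pt.ev_pull, idPt_ev, post_ev, Pt.ev_pull] at h
    exact h
  let q : Red.bc g R ⟶ X' := Over.homMk ξ hξ
  refine ⟨R, q, fun T => ⟨fun v v' hvv => ?_, fun y => ?_⟩⟩
  · refine Over.OverMorphism.ext (pullback.hom_ext ?_ ((Over.w v).trans (Over.w v').symm))
    have hs : ∀ w : T ⟶ R, (w.left ≫ pullback.fst a σ) ≫ u₁.str = T.hom := fun w => by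
      rw [Category.assoc, hstr]; exact Over.w w
    refine (h₁ (u₁.pull (v'.left ≫ pullback.fst a σ))).unique ?_ rfl
    refine Pt.ext' ((hs v).trans (hs v').symm) fun {Q} p r w w' => ?_
    have hp : p ≫ T.hom = r ≫ g := by rw [← hs v]; exact w
    have hl := congrArg (fun k : Red.bc g T ⟶ X' => pullback.lift p r hp ≫ k.left) hvv
    rw [restr_left, restr_left] at hl
    rw [Pt.ev_pull, Pt.ev_pull]
    simp only [q, Over.homMk_left, ξ, Pt.comp_ev] at hl
    refine (Pt.ev_congr rfl ?_ ?_ _).trans (hl.trans (Pt.ev_congr rfl ?_ ?_ _))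
    all_goals simp
  · let x : Pt g (X'.hom ≫ g) T.left := ⟨T.hom, y.left, by
      rw [← Category.assoc]; exact congrArg (· ≫ g) (Over.w y)⟩
    obtain ⟨m, hm, -⟩ := h₁ x
    have hpost : post x = (idPt g).pull T.hom := by
      refine Pt.ext' (Category.comp_id _).symm fun p r w w' => ?_
      rw [post_ev, Pt.ev_pull, idPt_ev]
      show (pullback.lift p r _ ≫ y.left) ≫ X'.hom = r
      rw [Category.assoc]
      exact (congrArg (pullback.lift p r _ ≫ ·) (Over.w y)).trans (pullback.lift_snd _ _ _)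
    have hma : m ≫ a = T.hom ≫ σ := (h₂ ((idPt g).pull T.hom)).unique
      (by rw [Pt.pull_comp, ha, ← post_pull, hm, hpost]) (by rw [Pt.pull_comp, hσ])
    let v : T ⟶ R := Over.homMk (pullback.lift m T.hom hma) (pullback.lift_snd _ _ _)
    refine ⟨v, Over.OverMorphism.ext ?_⟩
    rw [restr_left]
    simp only [q, Over.homMk_left, ξ, Pt.comp_ev]
    have w : pullback.fst T.hom g ≫ (u₁.pull m).str = pullback.snd T.hom g ≫ g := by
      rw [hm]; exact pullback.condition
    refine Eq.trans ?_ ((Pt.ev_congr hm rfl rfl w).trans x.ev_self)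
    rw [Pt.ev_pull]
    refine Pt.ev_congr rfl ?_ ?_ _
    all_goals simp [v]

end Restrict

/-- Weil restriction of any scheme along a finite locally free universal homeomorphism. -/
theorem exists_isWeilRes_univHomeo [IsFinite g] [Flat g] [LocallyOfFinitePresentation g]
    (hg : FlatMor.IsUnivHomeo g) (X' : Over Z) :
    ∃ (R : Over S) (q : Red.bc g R ⟶ X'), WeilRes.IsWeilRes g X' R q := by
  have key : ∀ {Y : Scheme.{u}} (h : Y ⟶ S), ∃ (W : Scheme.{u}) (u₀ : Pt g h W),
      ∀ {T : Scheme.{u}} (x : Pt g h T), ∃! m : T ⟶ W, u₀.pull m = x := fun {Y} h => by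
    let ι := {p : S.affineOpens × Y.affineOpens // p.2.1 ≤ h ⁻¹ᵁ p.1.1}
    choose c hcV hcU hcW using fun p : ι => exists_chart (g := g) (f := h) p.1.1.2 p.1.2.2 p.2
    refine exists_universal c fun {T} x t => ?_
    have hinj : Function.Injective (pullback.fst x.str g).base :=
      (hg _ _ (pullback.fst x.str g) (IsPullback.of_hasPullback x.str g)).injective
    obtain ⟨V, hV, hsV, -⟩ := exists_isAffineOpen_mem_and_subset (X := S) (x := x.str t) (U := ⊤) trivial
    by_cases hz : ∃ z, pullback.fst x.str g z = t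
    · obtain ⟨z, hz⟩ := hz
      have hzV : x.b z ∈ h ⁻¹ᵁ V := by
        show h (x.b z) ∈ V
        rw [← Scheme.Hom.comp_apply, x.w, ← pullback.condition, Scheme.Hom.comp_apply, hz]
        exact hsV
      obtain ⟨U, hU, hzU, hUV⟩ := exists_isAffineOpen_mem_and_subset (X := Y) (x := x.b z) (U := h ⁻¹ᵁ V) hzV
      refine ⟨⟨(⟨V, hV⟩, ⟨U, hU⟩), hUV⟩, ((c _).mem_locus x t).2 ⟨by rw [hcV]; exact hsV, fun z' hz' => ?_⟩⟩
      rw [hinj (hz'.trans hz.symm), hcU]
      exact hzU
    · exact ⟨⟨(⟨V, hV⟩, ⟨⊥, isAffineOpen_bot Y⟩), bot_le⟩,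
        ((c _).mem_locus x t).2 ⟨by rw [hcV]; exact hsV, fun z' hz' => absurd ⟨z', hz'⟩ hz⟩⟩
  obtain ⟨W₁, u₁, h₁⟩ := key (X'.hom ≫ g)
  obtain ⟨W₂, u₂, h₂⟩ := key g
  exact exists_isWeilRes_of_universal u₁ u₂ h₁ h₂

end Groth.Agent.PicfLib.Weil
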